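import Groth.Agent.InvQ.K701.LinRed.PolyRep
import Groth.Agent.InvQ.K701.GLPts
import Groth.Agent.InvQ.K701.Orbit
import Mathlib.Tactic

/-!
# Linear reductivity of the general and the special linear group in characteristic zero
-/

set_option autoImplicit false

universe u

open TensorProduct HopfRep CoordGrp K701.GLPts Groth.Agent.Books Groth.Agent.Books.ComodPoints

namespace K701.LinRed

section General

variable {k : Type u} [Field k] {A : Type u} [CommRing A] [Bialgebra k A]

/-- A criterion for linear reductivity: if points separate functions, it suffices to find a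
complement of every subspace stable under a group of points containing all points. -/
theorem isSemisimpleComod_of_rep (hsep : ∀ a : A, (∀ g : A →ₐ[k] k, g a = 0) → a = 0)
    {H : Type*} [Group H] (p : H →* WithConv (A →ₐ[k] k)) (hp : Function.Surjective p)
    (χ : H →* k) {V : Type*} [AddCommGroup V] [Module k V] [Comod k A V]
    (ρ : Representation k H V) (hρ : ∀ h v, ρ h v = χ h • Comod.act k A V (p h).ofConv v)
    (hss : Representation.IsSemisimpleRepresentation ρ) : IsSemisimpleComod k A V := by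
  have hχ : ∀ h, χ h ≠ 0 := fun h => ((Group.isUnit h).map χ).ne_zero
  intro W hW
  obtain ⟨⟨W', hW'⟩, hc⟩ := hss.exists_isCompl ⟨W, fun h w hw => by
    rw [hρ]
    exact W.smul_mem _ (act_mem_of_isSubcomod hW _ hw)⟩
  refine ⟨W', isSubcomod_of_stable hsep W' fun g w hw => ?_, ?_⟩
  · obtain ⟨h, hh⟩ := hp (WithConv.toConv g)
    have h1 := hW' h hw
    rw [hρ, hh] at h1
    exact (W'.smul_mem_iff (hχ h)).1 h1
  · constructor
    · rw [disjoint_iff]
      exact congrArg Subrepresentation.toSubmodule (disjoint_iff.1 hc.disjoint)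
    · rw [codisjoint_iff]
      exact congrArg Subrepresentation.toSubmodule (codisjoint_iff.1 hc.codisjoint)

end General

lemma ptHom_surjective (k : Type u) [CommRing k] (n : ℕ) :
    Function.Surjective (ptHom (n := n) (k := k)) := by
  intro g
  obtain ⟨u, hu⟩ := exists_ptU_eq (WithConv.ofConv g)
  refine ⟨u, ?_⟩
  apply WithConv.ofConv_injective
  rw [ofConv_ptHom, hu]

lemma sptHom_surjective (k : Type u) [CommRing k] (n : ℕ) :
    Function.Surjective (sptHom (n := n) (k := k)) := by
  intro g
  obtain ⟨u, hu⟩ := exists_spt_eq (WithConv.ofConv g)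
  refine ⟨u, ?_⟩
  apply WithConv.ofConv_injective
  rw [ofConv_sptHom, hu]

variable {n : ℕ} {k : Type u} [Field k]

/-- every regular function on the general linear group becomes polynomial after multiplication with
a power of the determinant -/
theorem exists_pow_mul (a : GLn n k) : ∃ (N : ℕ) (P : MvPolynomial (Fin n × Fin n) k),
    ∀ u : (Matrix (Fin n) (Fin n) k)ˣ, u.val.det ^ N * ptU u a =
      MvPolynomial.eval (fun q => u.val q.1 q.2) P := by
  obtain ⟨p, rfl⟩ := Ideal.Quotient.mk_surjective a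
  change ∃ (N : ℕ) (P : MvPolynomial (Fin n × Fin n) k),
    ∀ u : (Matrix (Fin n) (Fin n) k)ˣ, u.val.det ^ N * ptU u (GLn.mk n k p) =
      MvPolynomial.eval (fun q => u.val q.1 q.2) P
  have hdet : ∀ u : (Matrix (Fin n) (Fin n) k)ˣ, MvPolynomial.eval (fun q => u.val q.1 q.2)
      (Matrix.mvPolynomialX (Fin n) (Fin n) k).det = u.val.det := by
    intro u
    rw [Matrix.eval_det_mvPolynomialX]
    rfl
  refine MvPolynomial.induction_on (motive := fun p : MvPolynomial (GLPoly.Idx n) k =>
    ∃ (N : ℕ) (P : MvPolynomial (Fin n × Fin n) k),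
    ∀ u : (Matrix (Fin n) (Fin n) k)ˣ, u.val.det ^ N * ptU u (GLn.mk n k p) =
      MvPolynomial.eval (fun q => u.val q.1 q.2) P) p ?_ ?_ ?_
  · intro c
    refine ⟨0, MvPolynomial.C c, fun u => ?_⟩
    rw [pow_zero, one_mul, MvPolynomial.eval_C]
    exact ((ptU u).comp (GLn.mk n k)).commutes c
  · rintro p q ⟨N₁, P₁, h₁⟩ ⟨N₂, P₂, h₂⟩
    refine ⟨N₁ + N₂, (Matrix.mvPolynomialX (Fin n) (Fin n) k).det ^ N₂ * P₁ +
      (Matrix.mvPolynomialX (Fin n) (Fin n) k).det ^ N₁ * P₂, fun u => ?_⟩
    rw [map_add, map_mul, map_mul, map_pow, map_pow, hdet, ← h₁, ← h₂]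
    have h3 : ptU u (GLn.mk n k (p + q : MvPolynomial (GLPoly.Idx n) k)) =
        ptU u (GLn.mk n k p) + ptU u (GLn.mk n k q) :=
      map_add ((ptU u).comp (GLn.mk n k)) p q
    rw [h3]
    ring
  · rintro p i ⟨N, P, h⟩
    have h3 : ∀ u, ptU u (GLn.mk n k (p * MvPolynomial.X i : MvPolynomial (GLPoly.Idx n) k)) =
        ptU u (GLn.mk n k p) *
          ptU u (GLn.mk n k (MvPolynomial.X i : MvPolynomial (GLPoly.Idx n) k)) := fun u =>
      map_mul ((ptU u).comp (GLn.mk n k)) p (MvPolynomial.X i)
    rcases i with ⟨i, j⟩ | ⟨⟩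
    · refine ⟨N, P * MvPolynomial.X (i, j), fun u => ?_⟩
      rw [h3, map_mul, ← h, MvPolynomial.eval_X, mul_assoc]
      congr 2
      exact ptU_X u i j
    · refine ⟨N + 1, P, fun u => ?_⟩
      rw [h3, ← h]
      have h4 : ptU u (GLn.mk n k (MvPolynomial.X (Sum.inr ()) : MvPolynomial (GLPoly.Idx n) k)) =
        (u⁻¹).val.det := ptU_Dinv u
      have h5 : u.val.det * (u⁻¹).val.det = 1 := by
        rw [← Matrix.det_mul, Units.mul_inv, Matrix.det_one]
      rw [h4, pow_succ]
      linear_combination (u.val.det ^ N * ptU u (GLn.mk n k p)) * h5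

/-- a version with a given larger exponent -/
lemma exists_pow_mul_of_le {a : GLn n k} {N M : ℕ} (hNM : N ≤ M)
    (h : ∃ (P : MvPolynomial (Fin n × Fin n) k),
      ∀ u : (Matrix (Fin n) (Fin n) k)ˣ, u.val.det ^ N * ptU u a =
        MvPolynomial.eval (fun q => u.val q.1 q.2) P) :
    ∃ (P : MvPolynomial (Fin n × Fin n) k),
      ∀ u : (Matrix (Fin n) (Fin n) k)ˣ, u.val.det ^ M * ptU u a =
        MvPolynomial.eval (fun q => u.val q.1 q.2) P := by
  obtain ⟨P, hP⟩ := h
  obtain ⟨r, rfl⟩ := Nat.exists_eq_add_of_le hNM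
  refine ⟨(Matrix.mvPolynomialX (Fin n) (Fin n) k).det ^ r * P, fun u => ?_⟩
  rw [map_mul, map_pow, Matrix.eval_det_mvPolynomialX, ← hP, pow_add]
  change _ = u.val.det ^ r * _
  ring

/-- coefficients: reduction to a basis -/
lemma coeff_of_basis {H : Type*} {V : Type*} [AddCommGroup V] [Module k V] {m : ℕ}
    (b : Module.Basis (Fin m) k V) (f : H → Module.End k V) {σ : Type*} (s : H → σ → k)
    (h : ∀ i j, ∃ P : MvPolynomial σ k, ∀ x, b.coord i (f x (b j)) = MvPolynomial.eval (s x) P)
    (v : V) (φ : Module.Dual k V) :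
    ∃ P : MvPolynomial σ k, ∀ x, φ (f x v) = MvPolynomial.eval (s x) P := by
  choose P hP using h
  refine ⟨∑ i, ∑ j, MvPolynomial.C (b.coord j v * φ (b i)) * P i j, fun x => ?_⟩
  rw [map_sum]
  simp only [map_sum, map_mul, MvPolynomial.eval_C, ← hP]
  conv_lhs => rw [← b.sum_repr v]
  rw [map_sum, map_sum, Finset.sum_comm]
  refine Finset.sum_congr rfl fun j _ => ?_
  conv_lhs => rw [map_smul, map_smul, ← b.sum_repr (f x (b j))]
  rw [map_sum, Finset.smul_sum]
  refine Finset.sum_congr rfl fun i _ => ?_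
  rw [map_smul, smul_eq_mul, smul_eq_mul, Module.Basis.coord_apply, Module.Basis.coord_apply]
  ring

variable [IsAlgClosed k] [CharZero k]

/-- **The general linear group is linearly reductive in characteristic zero.** -/
theorem isLinearlyReductive_GLn (k : Type u) [Field k] [IsAlgClosed k] [CharZero k] (n : ℕ) :
    IsLinearlyReductive k (GLn n k) := by
  intro V _ _ _ hfin
  have := K701.Orbit.isReduced_hopf k (GLn n k)
  classical
  let b := Module.finBasis k V
  -- the coefficients
  let a : Fin (Module.finrank k V) → Fin (Module.finrank k V) → GLn n k := fun i j =>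
    TensorProduct.lid k (GLn n k) ((b.coord i).rTensor (GLn n k)
      (Comod.coact (k := k) (A := GLn n k) (b j)))
  choose N hN using fun i j => exists_pow_mul (a i j)
  let M := ∑ i, ∑ j, N i j
  have hM : ∀ i j, N i j ≤ M := fun i j =>
    (Finset.single_le_sum (f := fun j => N i j) (fun _ _ => Nat.zero_le _)
      (Finset.mem_univ j)).trans (Finset.single_le_sum (f := fun i => ∑ j, N i j)
      (fun _ _ => Nat.zero_le _) (Finset.mem_univ i))
  let χ : (Matrix (Fin n) (Fin n) k)ˣ →* k :=
    (powMonoidHom M).comp (Matrix.detMonoidHom.comp (Units.coeHom _))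
  let ρ : Representation k (Matrix (Fin n) (Fin n) k)ˣ V :=
    { toFun := fun h => χ h • rep k (GLn n k) V (ptHom h)
      map_one' := by rw [map_one, map_one, map_one, one_smul]
      map_mul' := fun g h => by
        rw [map_mul, map_mul, map_mul, smul_mul_smul_comm] }
  refine isSemisimpleComod_of_rep (PointsAC.eq_zero_of_forall_point k _) ptHom
    (ptHom_surjective k n) χ ρ (fun h v => rfl) ?_
  · refine PolyRep.isSemisimple (MonoidHom.id _) (fun u => ⟨1, u, by simp⟩) ρ ?_
    refine coeff_of_basis (H := (Matrix (Fin n) (Fin n) k)ˣ) (σ := Fin n × Fin n) b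
      (fun h => ρ h) (fun h q => h.val q.1 q.2) fun i j => ?_
    obtain ⟨P, hP⟩ := exists_pow_mul_of_le (hM i j) (hN i j)
    refine ⟨P, fun u => ?_⟩
    rw [← hP]
    change b.coord i (u.val.det ^ M • Comod.act k (GLn n k) V (ptU u) (b j)) = _
    rw [map_smul, smul_eq_mul, coef]

/-- **The special linear group is linearly reductive in characteristic zero.** -/
theorem isLinearlyReductive_SLn (k : Type u) [Field k] [IsAlgClosed k] [CharZero k] (n : ℕ) :
    IsLinearlyReductive k (SLn n k) := by
  intro V _ _ _ hfin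
  have := K701.Orbit.isReduced_hopf k (SLn n k)
  classical
  let b := Module.finBasis k V
  let ρ : Representation k (Matrix.SpecialLinearGroup (Fin n) k) V :=
    (rep k (SLn n k) V).comp sptHom
  refine isSemisimpleComod_of_rep (PointsAC.eq_zero_of_forall_point k _) sptHom
    (sptHom_surjective k n) 1 ρ (fun h v => (one_smul _ _).symm) ?_
  · refine PolyRep.isSemisimple (Matrix.SpecialLinearGroup.toGL) ?_ ρ ?_
    · intro u
      rcases n with _ | n
      · exact ⟨1, 1, Subsingleton.elim _ _⟩
      · obtain ⟨c, hc⟩ := IsAlgClosed.exists_pow_nat_eq u.val.det (Nat.succ_pos n)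
        have hu : u.val.det ≠ 0 := ((Matrix.isUnit_iff_isUnit_det _).1 u.isUnit).ne_zero
        have hc0 : c ≠ 0 := by
          rintro rfl
          rw [zero_pow (Nat.succ_ne_zero n)] at hc
          exact hu hc.symm
        refine ⟨c, ⟨c⁻¹ • u.val, ?_⟩, ?_⟩
        · rw [Matrix.det_smul, Fintype.card_fin, inv_pow, hc, inv_mul_cancel₀ hu]
        · change u.val = c • (c⁻¹ • u.val)
          rw [smul_smul, mul_inv_cancel₀ hc0, one_smul]
    · refine coeff_of_basis (H := Matrix.SpecialLinearGroup (Fin n) k) (σ := Fin n × Fin n) b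
        (fun h => ρ h) (fun h q => h.val q.1 q.2) fun i j => ?_
      obtain ⟨a, ha⟩ := Ideal.Quotient.mk_surjective (TensorProduct.lid k (SLn n k)
        ((b.coord i).rTensor (SLn n k) (Comod.coact (k := k) (A := SLn n k) (b j))))
      obtain ⟨N, P, hP⟩ := exists_pow_mul a
      refine ⟨P, fun s => ?_⟩
      have h1 := hP (Matrix.SpecialLinearGroup.toGL s)
      have h2 : (Matrix.SpecialLinearGroup.toGL s : Matrix (Fin n) (Fin n) k).det = 1 := s.2
      rw [h2, one_pow, one_mul] at h1
      refine Eq.trans ?_ h1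
      change b.coord i (Comod.act k (SLn n k) V (spt s) (b j)) = _
      rw [coef, ← ha, ← spt_comp_mk s _ rfl]
      rfl

end K701.LinRed
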