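import Mathlib.RepresentationTheory.Maschke
import Mathlib.RingTheory.SimpleModule.WedderburnArtin
import Mathlib.Tactic

/-!
# Semisimplicity over the commutant of a finite group

A subspace of a finite-dimensional representation of a finite group (over a field whose
characteristic does not divide the order) which is stable under the commutant has a complement
which is stable under the commutant.
-/

set_option autoImplicit false

namespace K701.Commutant

variable {k G W : Type*} [Field k] [Group G] [Finite G] [NeZero (Nat.card G : k)]
  [AddCommGroup W] [Module k W] [Module.Finite k W]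

/-- An endomorphism commuting with a representation as an endomorphism of the module. -/
noncomputable def endOf (π : Representation k G W) (a : Module.End k W)
    (ha : ∀ g, a ∘ₗ π g = π g ∘ₗ a) : Module.End (MonoidAlgebra k G) π.asModule where
  toFun x := π.asModuleEquiv.symm (a (π.asModuleEquiv x))
  map_add' x y := by simp
  map_smul' r x := by
    induction r using MonoidAlgebra.induction_on with
    | of g =>
      simp only [RingHom.id_apply]
      have h1 : MonoidAlgebra.of k G g • x = π.asModuleEquiv.symm (π g (π.asModuleEquiv x)) := by
        rw [Representation.asModuleEquiv_symm_map_rho]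
        rfl
      rw [h1, LinearEquiv.apply_symm_apply, ← LinearMap.comp_apply a, ha, LinearMap.comp_apply,
        Representation.asModuleEquiv_symm_map_rho]
    | add x y hx hy =>
      simp only [add_smul, map_add, hx, hy, RingHom.id_apply]
    | smul c r hr =>
      simp only [smul_assoc, map_smul, RingHom.id_apply] at hr ⊢
      rw [hr]

theorem exists_isCompl (π : Representation k G W) (U : Submodule k W)
    (hU : ∀ a : Module.End k W, (∀ g, a ∘ₗ π g = π g ∘ₗ a) → ∀ u ∈ U, a u ∈ U) :
    ∃ U' : Submodule k W, (∀ a : Module.End k W, (∀ g, a ∘ₗ π g = π g ∘ₗ a) →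
      ∀ u ∈ U', a u ∈ U') ∧ IsCompl U U' := by
  classical
  have h1 : Module.Finite (MonoidAlgebra k G) π.asModule :=
    Module.Finite.of_restrictScalars_finite k (MonoidAlgebra k G) π.asModule
  have h2 : IsSemisimpleRing (Module.End (MonoidAlgebra k G) π.asModule) :=
    IsSemisimpleRing.moduleEnd _ _
  let S := Module.End (MonoidAlgebra k G) π.asModule
  have hS : IsSemisimpleModule S π.asModule := inferInstance
  let V : Submodule S π.asModule :=
    { carrier := {x | π.asModuleEquiv x ∈ U}
      add_mem' := fun {x y} hx hy => by
        change π.asModuleEquiv (x + y) ∈ U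
        rw [map_add]
        exact U.add_mem hx hy
      zero_mem' := by
        change π.asModuleEquiv 0 ∈ U
        rw [map_zero]
        exact U.zero_mem
      smul_mem' := fun s x hx => by
        change π.asModuleEquiv (s x) ∈ U
        let a : Module.End k W := π.asModuleEquiv.toLinearMap ∘ₗ (s.restrictScalars k) ∘ₗ
          π.asModuleEquiv.symm.toLinearMap
        have := hU a (fun g => by
          ext x
          simp only [a, LinearMap.comp_apply, LinearEquiv.coe_coe, LinearMap.restrictScalars_apply,
            Representation.asModuleEquiv_symm_map_rho, map_smul]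
          rw [Representation.asModuleEquiv_map_smul]
          simp) _ hx
        change π.asModuleEquiv (s (π.asModuleEquiv.symm (π.asModuleEquiv x))) ∈ U at this
        rwa [LinearEquiv.symm_apply_apply] at this }
  obtain ⟨V', hV'⟩ := ComplementedLattice.exists_isCompl V
  refine ⟨⟨⟨⟨{x | π.asModuleEquiv.symm x ∈ V'}, ?_⟩, ?_⟩, ?_⟩, ?_, ?_⟩
  · intro x y hx hy
    change π.asModuleEquiv.symm (x + y) ∈ V'
    rw [map_add]
    exact V'.add_mem hx hy
  · change π.asModuleEquiv.symm 0 ∈ V'
    rw [map_zero]
    exact V'.zero_mem
  · intro c x hx
    change π.asModuleEquiv.symm (c • x) ∈ V'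
    have := V'.smul_mem (endOf π (c • LinearMap.id) (fun g => by ext x; simp)) hx
    change π.asModuleEquiv.symm ((c • LinearMap.id : Module.End k W) x) ∈ V' at this
    simpa using this
  · intro a ha x hx
    exact V'.smul_mem (endOf π a ha) hx
  · constructor
    · rw [Submodule.disjoint_def]
      intro x hx hx'
      have := (Submodule.disjoint_def.1 hV'.disjoint) (π.asModuleEquiv.symm x) (by
        change π.asModuleEquiv (π.asModuleEquiv.symm x) ∈ U
        rwa [LinearEquiv.apply_symm_apply]) hx'
      exact (map_eq_zero_iff _ π.asModuleEquiv.symm.injective).1 this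
    · rw [codisjoint_iff, eq_top_iff]
      intro x _
      obtain ⟨y, hy, z, hz, hyz⟩ := Submodule.mem_sup.1
        (show π.asModuleEquiv.symm x ∈ V ⊔ V' by rw [hV'.sup_eq_top]; trivial)
      rw [Submodule.mem_sup]
      refine ⟨π.asModuleEquiv y, hy, π.asModuleEquiv z, ?_, ?_⟩
      · change π.asModuleEquiv.symm (π.asModuleEquiv z) ∈ V'
        rwa [LinearEquiv.symm_apply_apply]
      · rw [← map_add, hyz, LinearEquiv.apply_symm_apply]

end K701.Commutant
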