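import Mathlib.LinearAlgebra.Matrix.NonsingularInverse
import Mathlib.LinearAlgebra.Matrix.MvPolynomial
import Mathlib.Algebra.MvPolynomial.Funext
import Mathlib.LinearAlgebra.Basis.VectorSpace
import Mathlib.Tactic

/-!
# The Schur algebra

`tensorMat g` is the matrix of the action of `g` on the `d`-th tensor power of the standard
representation.  `mem_span`: over an infinite field every matrix invariant under simultaneous
permutations of the tensor factors is a linear combination of matrices `tensorMat g`, `g`
invertible.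
-/

set_option autoImplicit false

namespace K701.Schur

variable {n d : ℕ}

section Ring

variable {k : Type*} [CommRing k]

/-- the matrix of the action of `g` on the tensor power -/
def tensorMat (d : ℕ) (g : Matrix (Fin n) (Fin n) k) :
    Matrix (Fin d → Fin n) (Fin d → Fin n) k :=
  Matrix.of fun I J => ∏ l, g (I l) (J l)

@[simp] lemma tensorMat_apply (g : Matrix (Fin n) (Fin n) k) (I J : Fin d → Fin n) :
    tensorMat d g I J = ∏ l, g (I l) (J l) := rfl

lemma tensorMat_mul (g h : Matrix (Fin n) (Fin n) k) :
    tensorMat d (g * h) = tensorMat d g * tensorMat d h := by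
  ext I J
  simp only [tensorMat_apply, Matrix.mul_apply]
  rw [Finset.prod_univ_sum, Fintype.piFinset_univ]
  simp only [Finset.prod_mul_distrib]

lemma tensorMat_one : tensorMat d (1 : Matrix (Fin n) (Fin n) k) = 1 := by
  ext I J
  simp only [tensorMat_apply, Matrix.one_apply]
  split_ifs with h
  · subst h
    simp
  · obtain ⟨l, hl⟩ := Function.ne_iff.1 h
    exact Finset.prod_eq_zero (Finset.mem_univ l) (if_neg hl)

lemma tensorMat_smul (c : k) (g : Matrix (Fin n) (Fin n) k) :
    tensorMat d (c • g) = c ^ d • tensorMat d g := by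
  ext I J
  simp [Finset.prod_mul_distrib]

lemma tensorMat_comp_perm (g : Matrix (Fin n) (Fin n) k) (σ : Equiv.Perm (Fin d))
    (I J : Fin d → Fin n) : tensorMat d g (I ∘ σ) (J ∘ σ) = tensorMat d g I J := by
  simp only [tensorMat_apply, Function.comp_apply]
  exact Equiv.prod_comp σ (fun l => g (I l) (J l))

end Ring

lemma exists_perm {α : Type*} [DecidableEq α] (K K' : Fin d → α)
    (h : ∀ v, (Finset.univ.filter fun l => K l = v).card =
      (Finset.univ.filter fun l => K' l = v).card) : ∃ σ : Equiv.Perm (Fin d), K' = K ∘ σ := by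
  have h1 : ∀ v, Nonempty ({l // K' l = v} ≃ {l // K l = v}) := by
    intro v
    rw [← Fintype.card_eq, Fintype.card_subtype, Fintype.card_subtype, h]
  let e : ∀ v, {l // K' l = v} ≃ {l // K l = v} := fun v => (h1 v).some
  refine ⟨(Equiv.sigmaFiberEquiv K').symm.trans
    ((Equiv.sigmaCongrRight e).trans (Equiv.sigmaFiberEquiv K)), ?_⟩
  funext l
  exact ((e (K' l)) ⟨l, rfl⟩).2.symm

/-- the exponent of the monomial attached to a family of indices -/
noncomputable def expo {α : Type*} (K : Fin d → α) : α →₀ ℕ := ∑ l, Finsupp.single (K l) 1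

lemma exists_perm_of_expo_eq {α : Type*} [DecidableEq α] (K K' : Fin d → α)
    (h : expo K = expo K') : ∃ σ : Equiv.Perm (Fin d), K' = K ∘ σ := by
  refine exists_perm K K' fun v => ?_
  have := DFunLike.congr_fun h v
  simp only [expo, Finsupp.finsetSum_apply, Finsupp.single_apply] at this
  rw [Finset.card_filter, Finset.card_filter]
  exact this

variable {k : Type*} [Field k] [Infinite k]

open MvPolynomial in
/-- Matrices which are invariant under simultaneous permutations are combinations of the matrices
of invertible matrices on the tensor power. -/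
theorem mem_span (a : Matrix (Fin d → Fin n) (Fin d → Fin n) k)
    (ha : ∀ (σ : Equiv.Perm (Fin d)) (I J : Fin d → Fin n), a (I ∘ σ) (J ∘ σ) = a I J) :
    a ∈ Submodule.span k (Set.range fun g : (Matrix (Fin n) (Fin n) k)ˣ => tensorMat d g.val) := by
  classical
  by_contra hcon
  obtain ⟨f, hf, hf'⟩ := Submodule.exists_le_ker_of_notMem hcon
  let c : (Fin d → Fin n) × (Fin d → Fin n) → k := fun p => f (Matrix.single p.1 p.2 1)
  have hfc : ∀ b, f b = ∑ p : (Fin d → Fin n) × (Fin d → Fin n), c p * b p.1 p.2 := by
    intro b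
    conv_lhs => rw [Matrix.matrix_eq_sum_single b]
    rw [Fintype.sum_prod_type, map_sum]
    refine Finset.sum_congr rfl fun I _ => ?_
    rw [map_sum]
    refine Finset.sum_congr rfl fun J _ => ?_
    rw [mul_comm, ← smul_eq_mul, ← map_smul, Matrix.smul_single, smul_eq_mul, mul_one]
  let K : (Fin d → Fin n) × (Fin d → Fin n) → Fin d → Fin n × Fin n := fun p l => (p.1 l, p.2 l)
  let P : MvPolynomial (Fin n × Fin n) k := ∑ p, monomial (expo (K p)) (c p)
  have heval : ∀ g : Matrix (Fin n) (Fin n) k, eval (fun q => g q.1 q.2) P = f (tensorMat d g) := by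
    intro g
    rw [hfc, map_sum]
    refine Finset.sum_congr rfl fun p _ => ?_
    rw [eval_monomial]
    congr 1
    rw [expo, Finsupp.prod_fintype _ _ (fun _ => pow_zero _)]
    have : ∀ q : Fin n × Fin n, g q.1 q.2 ^ ((∑ l, Finsupp.single (K p l) 1 : Fin n × Fin n →₀ ℕ) q)
        = ∏ l, g q.1 q.2 ^ ((Finsupp.single (K p l) 1 : Fin n × Fin n →₀ ℕ) q) := by
      intro q
      rw [Finsupp.finsetSum_apply, Finset.prod_pow_eq_pow_sum]
    simp only [this]
    rw [Finset.prod_comm]
    refine Finset.prod_congr rfl fun l _ => ?_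
    rw [Finset.prod_eq_single (K p l)]
    · rw [Finsupp.single_eq_same, pow_one]
    · intro q _ hq
      rw [Finsupp.single_eq_of_ne hq, pow_zero]
    · simp
  have hP : P = 0 := by
    have h1 : P * (Matrix.mvPolynomialX (Fin n) (Fin n) k).det = 0 := by
      apply MvPolynomial.funext
      intro s
      rw [map_mul, map_zero, Matrix.eval_det_mvPolynomialX]
      by_cases hs : (Matrix.of fun i j => s (i, j)).det = 0
      · rw [hs, mul_zero]
      · have hu : IsUnit (Matrix.of fun i j => s (i, j)) :=
          (Matrix.isUnit_iff_isUnit_det _).2 (Ne.isUnit hs)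
        obtain ⟨u, hu⟩ := hu
        have h2 : f (tensorMat d u.val) = 0 := hf' (Submodule.subset_span ⟨u, rfl⟩)
        have h3 := heval u.val
        rw [h2, hu] at h3
        have h4 : (fun q : Fin n × Fin n => (Matrix.of fun i j => s (i, j)) q.1 q.2) = s := rfl
        rw [h4] at h3
        rw [h3, zero_mul]
    exact (mul_eq_zero.1 h1).resolve_right (Matrix.det_mvPolynomialX_ne_zero (Fin n) k)
  apply hf
  rw [hfc]
  have hcoef : ∀ m : Fin n × Fin n →₀ ℕ,
      ∑ p ∈ Finset.univ.filter (fun p => expo (K p) = m), c p = 0 := by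
    intro m
    have := congrArg (coeff m) hP
    rw [coeff_sum, coeff_zero] at this
    simp only [coeff_monomial] at this
    rw [Finset.sum_filter]
    exact this
  rw [← Finset.sum_fiberwise_of_maps_to (s := Finset.univ)
    (t := Finset.univ.image fun p => expo (K p)) (g := fun p => expo (K p))
    (fun p _ => Finset.mem_image_of_mem _ (Finset.mem_univ p))]
  refine Finset.sum_eq_zero fun m hm => ?_
  obtain ⟨p₀, -, rfl⟩ := Finset.mem_image.1 hm
  have h1 : ∀ p ∈ Finset.univ.filter (fun p => expo (K p) = expo (K p₀)),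
      c p * a p.1 p.2 = c p * a p₀.1 p₀.2 := by
    intro p hp
    obtain ⟨σ, hσ⟩ := exists_perm_of_expo_eq (K p₀) (K p) (Finset.mem_filter.1 hp).2.symm
    have e1 : p.1 = p₀.1 ∘ σ := by
      funext l
      exact congrArg Prod.fst (congrFun hσ l)
    have e2 : p.2 = p₀.2 ∘ σ := by
      funext l
      exact congrArg Prod.snd (congrFun hσ l)
    rw [e1, e2, ha]
  rw [Finset.sum_congr rfl h1, ← Finset.sum_mul, hcoef, zero_mul]

end K701.Schur
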