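import Groth.Agent.InvQ.K701.LinRed.Commutant
import Groth.Agent.InvQ.K701.LinRed.Schur
import Mathlib.RepresentationTheory.Intertwining
import Mathlib.RepresentationTheory.Semisimple
import Mathlib.Algebra.CharZero.Infinite
import Mathlib.Tactic

/-!
# Polynomial representations of the general linear group are semisimple

Let `H` be a group with a homomorphism `τ` to the group of invertible matrices such that every
invertible matrix is a scalar multiple of an element of the image of `τ`.  Then every
finite-dimensional representation of `H` whose matrix coefficients are polynomials in the entries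
of `τ` is semisimple (characteristic zero).
-/

set_option autoImplicit false

namespace K701.PolyRep

open K701.Schur

section Tensor

variable {n d : ℕ} {k : Type*} [Field k]

/-- permutation of the tensor factors -/
def permRep (k : Type*) [Field k] (n d : ℕ) :
    Representation k (Equiv.Perm (Fin d)) ((Fin d → Fin n) → k) where
  toFun σ := LinearMap.funLeft k k (fun J => J ∘ σ)
  map_one' := by ext w J; rfl
  map_mul' σ τ := by ext w J; rfl

lemma permRep_apply (σ : Equiv.Perm (Fin d)) (w : (Fin d → Fin n) → k) (J : Fin d → Fin n) :
    permRep k n d σ w J = w (J ∘ σ) := rfl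

theorem exists_isCompl_tensor [CharZero k] (U : Submodule k ((Fin d → Fin n) → k))
    (hU : ∀ g : (Matrix (Fin n) (Fin n) k)ˣ, ∀ u ∈ U, (tensorMat d g.val).mulVec u ∈ U) :
    ∃ U' : Submodule k ((Fin d → Fin n) → k),
      (∀ g : (Matrix (Fin n) (Fin n) k)ˣ, ∀ u ∈ U', (tensorMat d g.val).mulVec u ∈ U') ∧
      IsCompl U U' := by
  classical
  have : Infinite k := CharZero.infinite k
  have : NeZero (Nat.card (Equiv.Perm (Fin d)) : k) :=
    ⟨by rw [Nat.card_eq_fintype_card]; exact Nat.cast_ne_zero.2 Fintype.card_ne_zero⟩
  obtain ⟨U', hU', hc⟩ := Commutant.exists_isCompl (permRep k n d) U (by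
    intro a ha
    have h1 := mem_span (LinearMap.toMatrix' a) (by
      intro σ I J
      have h2 := congrFun (LinearMap.congr_fun (ha σ) (Pi.single (J ∘ σ) 1)) I
      rw [LinearMap.comp_apply, LinearMap.comp_apply, permRep_apply] at h2
      have h3 : permRep k n d σ (Pi.single (J ∘ σ) 1) = Pi.single J 1 := by
        funext M
        rw [permRep_apply, Pi.single_apply, Pi.single_apply]
        have : M ∘ σ = J ∘ σ ↔ M = J := σ.surjective.right_cancellable
        simp only [this]
      rw [h3] at h2
      rw [LinearMap.toMatrix'_apply, LinearMap.toMatrix'_apply]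
      exact h2.symm)
    intro u hu
    have h2 : ∀ M ∈ Submodule.span k (Set.range fun g : (Matrix (Fin n) (Fin n) k)ˣ =>
        tensorMat d g.val), M.mulVec u ∈ U := by
      intro M hM
      induction hM using Submodule.span_induction with
      | mem x hx =>
        obtain ⟨g, rfl⟩ := hx
        exact hU g u hu
      | zero => rw [Matrix.zero_mulVec]; exact U.zero_mem
      | add x y _ _ hx hy => rw [Matrix.add_mulVec]; exact U.add_mem hx hy
      | smul c x _ hx => rw [Matrix.smul_mulVec]; exact U.smul_mem c hx
    have h3 := h2 _ h1
    rwa [← Matrix.toLin'_apply, Matrix.toLin'_toMatrix'] at h3)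
  refine ⟨U', ?_, hc⟩
  intro g u hu
  have := hU' (Matrix.toLin' (tensorMat d g.val)) (by
    intro σ
    refine LinearMap.ext fun w => funext fun I => ?_
    rw [LinearMap.comp_apply, LinearMap.comp_apply, permRep_apply, Matrix.toLin'_apply,
      Matrix.toLin'_apply, Matrix.mulVec, Matrix.mulVec, dotProduct, dotProduct]
    rw [← Equiv.sum_comp (Equiv.arrowCongr σ.symm (Equiv.refl (Fin n)))
      (fun J => tensorMat d g.val (I ∘ σ) J * w J)]
    refine Finset.sum_congr rfl fun J _ => ?_
    have hJ : Equiv.arrowCongr σ.symm (Equiv.refl (Fin n)) J = J ∘ σ := by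
      funext l
      simp
    rw [permRep_apply, hJ, tensorMat_comp_perm]) u hu
  rwa [Matrix.toLin'_apply] at this

end Tensor

section Rep

variable {n : ℕ} {k : Type*} [Field k] {H : Type*} [Group H]
  (τ : H →* (Matrix (Fin n) (Fin n) k)ˣ)

/-- the tensor power of the standard representation -/
noncomputable def tensorRep (d : ℕ) : Representation k H ((Fin d → Fin n) → k) where
  toFun h := Matrix.toLin' (tensorMat d (τ h).val)
  map_one' := by
    rw [map_one, Units.val_one, tensorMat_one, Matrix.toLin'_one]
    rfl
  map_mul' g h := by
    rw [map_mul, Units.val_mul, tensorMat_mul, Matrix.toLin'_mul]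
    rfl

lemma tensorRep_apply (d : ℕ) (h : H) (w : (Fin d → Fin n) → k) :
    tensorRep τ d h w = (tensorMat d (τ h).val).mulVec w := by
  rw [← Matrix.toLin'_apply]
  rfl

/-- functions on the group with the action by right translations -/
def funRep (k : Type*) [Field k] (H : Type*) [Group H] : Representation k H (H → k) where
  toFun h := LinearMap.funLeft k k (fun x => x * h)
  map_one' := by
    ext w x
    change w (x * 1) = w x
    rw [mul_one]
  map_mul' g h := by
    ext w x
    change w (x * (g * h)) = w ((x * g) * h)
    rw [mul_assoc]

lemma funRep_apply (h : H) (w : H → k) (x : H) : funRep k H h w x = w (x * h) := rfl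

theorem isSemisimple_tensorRep [CharZero k]
    (hτ : ∀ u : (Matrix (Fin n) (Fin n) k)ˣ, ∃ (c : k) (h : H), u.val = c • (τ h).val) (d : ℕ) :
    IsSemisimpleModule (MonoidAlgebra k H) (tensorRep τ d).asModule := by
  rw [← Representation.isSemisimpleRepresentation_iff_isSemisimpleModule_asModule]
  refine ⟨fun U => ?_⟩
  obtain ⟨U', hU', hc⟩ := exists_isCompl_tensor U.toSubmodule (by
    intro g u hu
    obtain ⟨c, h, hch⟩ := hτ g
    rw [hch, tensorMat_smul, Matrix.smul_mulVec, ← tensorRep_apply]
    exact U.toSubmodule.smul_mem _ (U.apply_mem_toSubmodule h hu))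
  refine ⟨⟨U', fun h u hu => ?_⟩, ?_⟩
  · rw [tensorRep_apply]
    exact hU' _ _ hu
  · constructor
    · rw [disjoint_iff]
      apply Subrepresentation.toSubmodule_injective
      exact disjoint_iff.1 hc.disjoint
    · rw [codisjoint_iff]
      apply Subrepresentation.toSubmodule_injective
      exact codisjoint_iff.1 hc.codisjoint

/-- The map from the tensor power to the functions on the group given by an index. -/
noncomputable def theta (d : ℕ) (I : Fin d → Fin n) :
    Representation.IntertwiningMap (tensorRep τ d) (funRep k H) where
  toLinearMap :=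
    { toFun := fun w x => (tensorMat d (τ x).val).mulVec w I
      map_add' := fun w w' => by
        funext x
        rw [Matrix.mulVec_add]
        rfl
      map_smul' := fun c w => by
        funext x
        rw [Matrix.mulVec_smul]
        rfl }
  isIntertwining' := by
    intro h
    refine LinearMap.ext fun w => funext fun x => ?_
    change (tensorMat d (τ x).val).mulVec (tensorRep τ d h w) I =
      (tensorMat d (τ (x * h)).val).mulVec w I
    rw [tensorRep_apply, Matrix.mulVec_mulVec, ← tensorMat_mul, map_mul, Units.val_mul]

lemma theta_apply (d : ℕ) (I : Fin d → Fin n) (w : (Fin d → Fin n) → k) (x : H) :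
    theta τ d I w x = (tensorMat d (τ x).val).mulVec w I := rfl

/-- the submodule of polynomial functions -/
noncomputable def polyFun : Submodule (MonoidAlgebra k H) (funRep k H).asModule :=
  ⨆ x : Σ d : ℕ, (Fin d → Fin n),
    LinearMap.range (Representation.IntertwiningMap.equivLinearMapAsModule _ _
      (theta τ x.1 x.2))

theorem isSemisimple_polyFun [CharZero k]
    (hτ : ∀ u : (Matrix (Fin n) (Fin n) k)ˣ, ∃ (c : k) (h : H), u.val = c • (τ h).val) :
    IsSemisimpleModule (MonoidAlgebra k H) (polyFun τ) := by
  have h1 : ∀ x : Σ d : ℕ, (Fin d → Fin n), IsSemisimpleModule (MonoidAlgebra k H)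
      (LinearMap.range (Representation.IntertwiningMap.equivLinearMapAsModule _ _
        (theta τ x.1 x.2))) := by
    intro x
    have := isSemisimple_tensorRep τ hτ x.1
    exact IsSemisimpleModule.range _
  have h2 := isSemisimpleModule_biSup_of_isSemisimpleModule_submodule
    (s := (Set.univ : Set (Σ d : ℕ, (Fin d → Fin n)))) (p := fun x =>
      (LinearMap.range (Representation.IntertwiningMap.equivLinearMapAsModule _ _
        (theta τ x.1 x.2)))) (fun x _ => h1 x)
  rw [iSup_univ] at h2
  exact h2

/-- The function given by a polynomial in the matrix entries. -/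
noncomputable def evalFun (P : MvPolynomial (Fin n × Fin n) k) : H → k := fun x =>
  MvPolynomial.eval (fun q => (τ x).val q.1 q.2) P

lemma evalFun_mem (P : MvPolynomial (Fin n × Fin n) k) :
    ((funRep k H).asModuleEquiv.symm (evalFun τ P)) ∈ polyFun τ := by
  have h1 : P ∈ Submodule.span k (Set.range fun L : List (Fin n × Fin n) =>
      (L.map (MvPolynomial.X : _ → MvPolynomial (Fin n × Fin n) k)).prod) := by
    induction P using MvPolynomial.induction_on with
    | C a =>
      rw [MvPolynomial.C_eq_smul_one]
      exact Submodule.smul_mem _ _ (Submodule.subset_span ⟨[], rfl⟩)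
    | add p q hp hq => exact Submodule.add_mem _ hp hq
    | mul_X p i hp =>
      induction hp using Submodule.span_induction with
      | mem x hx =>
        obtain ⟨L, rfl⟩ := hx
        refine Submodule.subset_span ⟨i :: L, ?_⟩
        simp only [List.map_cons, List.prod_cons, mul_comm]
      | zero => rw [zero_mul]; exact Submodule.zero_mem _
      | add x y _ _ hx hy => rw [add_mul]; exact Submodule.add_mem _ hx hy
      | smul c x _ hx => rw [smul_mul_assoc]; exact Submodule.smul_mem _ _ hx
  induction h1 using Submodule.span_induction with
  | mem x hx =>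
    obtain ⟨L, rfl⟩ := hx
    have h2 : ∀ x : Σ d : ℕ, (Fin d → Fin n),
        LinearMap.range (Representation.IntertwiningMap.equivLinearMapAsModule _ _
          (theta τ x.1 x.2)) ≤ polyFun τ := fun x => le_iSup (fun x : Σ d : ℕ, (Fin d → Fin n) =>
        LinearMap.range (Representation.IntertwiningMap.equivLinearMapAsModule _ _
          (theta τ x.1 x.2))) x
    refine h2 ⟨L.length, fun l => (L.get l).1⟩ ?_
    refine ⟨(tensorRep τ L.length).asModuleEquiv.symm (Pi.single (fun l => (L.get l).2) 1), ?_⟩
    change theta τ L.length (fun l => (L.get l).1) (Pi.single (fun l => (L.get l).2) 1) = _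
    funext x
    rw [theta_apply, Matrix.mulVec_single_one]
    change ∏ l, (τ x).val (L.get l).1 (L.get l).2 = evalFun τ _ x
    rw [evalFun, map_list_prod, List.map_map]
    rw [← List.prod_ofFn]
    congr 1
    conv_rhs => rw [← List.ofFn_get L, List.map_ofFn]
    congr 1
    funext l
    simp
  | zero =>
    have : evalFun τ 0 = 0 := by
      funext x
      exact map_zero _
    rw [this, map_zero]
    exact Submodule.zero_mem _
  | add x y _ _ hx hy =>
    have : evalFun τ (x + y) = evalFun τ x + evalFun τ y := by
      funext z
      exact map_add _ _ _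
    rw [this, map_add]
    exact Submodule.add_mem _ hx hy
  | smul c x _ hx =>
    have : evalFun τ (c • x) = c • evalFun τ x := by
      funext z
      exact MvPolynomial.smul_eval _ _ _
    rw [this, map_smul]
    exact Submodule.smul_of_tower_mem _ c hx

set_option backward.isDefEq.respectTransparency false in
/-- **Polynomial representations are semisimple.** -/
theorem isSemisimple [CharZero k]
    (hτ : ∀ u : (Matrix (Fin n) (Fin n) k)ˣ, ∃ (c : k) (h : H), u.val = c • (τ h).val)
    {V : Type*} [AddCommGroup V] [Module k V] [Module.Finite k V] (ρ : Representation k H V)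
    (hρ : ∀ (v : V) (φ : Module.Dual k V), ∃ P : MvPolynomial (Fin n × Fin n) k,
      ∀ h, φ (ρ h v) = MvPolynomial.eval (fun q => (τ h).val q.1 q.2) P) :
    Representation.IsSemisimpleRepresentation ρ := by
  rw [Representation.isSemisimpleRepresentation_iff_isSemisimpleModule_asModule]
  have := isSemisimple_polyFun τ hτ
  let b := Module.finBasis k V
  -- the coefficient maps
  let ψ : ∀ i : Fin (Module.finrank k V), Representation.IntertwiningMap ρ (funRep k H) := fun i =>
    { toLinearMap :=
        { toFun := fun v x => b.coord i (ρ x v)
          map_add' := fun v w => by funext x; simp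
          map_smul' := fun c v => by funext x; simp }
      isIntertwining' := fun h => by
        refine LinearMap.ext fun v => funext fun x => ?_
        change b.coord i (ρ x (ρ h v)) = b.coord i (ρ (x * h) v)
        rw [map_mul]
        rfl }
  let Ψ : ρ.asModule →ₗ[MonoidAlgebra k H] (Fin (Module.finrank k V) → polyFun τ) :=
    LinearMap.pi fun i => LinearMap.codRestrict (polyFun τ)
      (Representation.IntertwiningMap.equivLinearMapAsModule _ _ (ψ i)) (by
        intro v
        obtain ⟨P, hP⟩ := hρ (ρ.asModuleEquiv v) (b.coord i)
        have h1 : Representation.IntertwiningMap.equivLinearMapAsModule _ _ (ψ i) v =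
            (funRep k H).asModuleEquiv.symm (evalFun τ P) := by
          funext x
          exact hP x
        rw [h1]
        exact evalFun_mem τ P)
  refine IsSemisimpleModule.of_injective (M := Fin (Module.finrank k V) → polyFun τ) Ψ ?_
  rw [injective_iff_map_eq_zero]
  intro v hv
  have h2 : ρ.asModuleEquiv v = 0 := by
    apply b.ext_elem
    intro i
    rw [map_zero, Finsupp.zero_apply]
    have h3 := congrFun (congrArg Subtype.val (congrFun hv i)) 1
    change b.coord i (ρ 1 (ρ.asModuleEquiv v)) = 0 at h3
    rw [map_one] at h3
    exact h3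
  exact (map_eq_zero_iff _ ρ.asModuleEquiv.injective).1 h2

end Rep

end K701.PolyRep
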